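import Cfsg.Agent.Lib.Spor.Cos.HeCent.ClassData
import Cfsg.Agent.Lib.Spor.Cos.He.ActAData

/-! Data and checks for a centraliser in the Held group. -/

set_option autoImplicit false
set_option maxRecDepth 100000
set_option maxHeartbeats 4000000

namespace Cfsg.Agent.Spor.Cos.HeCent

theorem cls1 : allBlock (chkConj He.actA [0, 1, 2, 3, 5, 8, 1435] 0 [3] 80 clsU clsK 3825) 3825 512 1 = true := by decide +kernel

end Cfsg.Agent.Spor.Cos.HeCent
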