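import Mathlib

/-!
The centraliser of a transvection in five dimensions over the field with two elements, through its action on vectors.
-/

set_option autoImplicit false
set_option maxRecDepth 100000
set_option maxHeartbeats 1000000

open Matrix

namespace Cfsg.Agent.Spor.Cos.HeCent

/-- The special linear group. -/
abbrev SL5 : Type := Matrix.SpecialLinearGroup (Fin 5) (ZMod 2)

/-- A vector from its code. -/
def vec (c : Fin 32) : Fin 5 → ZMod 2 := fun i => if (c : ℕ).testBit i then 1 else 0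

/-- The code of a vector. -/
def code (v : Fin 5 → ZMod 2) : Fin 32 :=
  ⟨((v 0).val + 2 * (v 1).val + 4 * (v 2).val + 8 * (v 3).val + 16 * (v 4).val) % 32, Nat.mod_lt _ (by norm_num)⟩

theorem code_vec : ∀ c, code (vec c) = c := by decide +kernel

theorem vec_code : ∀ v, vec (code v) = v := by decide +kernel

theorem code_add : ∀ a b : Fin 32, (code (vec a + vec b) : ℕ) = (a : ℕ) ^^^ b := by decide +kernel

/-- The action on codes. -/
def pi2 : SL5 →* Equiv.Perm (Fin 32) where
  toFun M :=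
    { toFun := fun c => code (M.1 *ᵥ vec c)
      invFun := fun c => code ((M⁻¹).1 *ᵥ vec c)
      left_inv := fun c => by
        simp only [vec_code, Matrix.mulVec_mulVec, ← Matrix.SpecialLinearGroup.coe_mul, inv_mul_cancel,
          Matrix.SpecialLinearGroup.coe_one, Matrix.one_mulVec, code_vec]
      right_inv := fun c => by
        simp only [vec_code, Matrix.mulVec_mulVec, ← Matrix.SpecialLinearGroup.coe_mul, mul_inv_cancel,
          Matrix.SpecialLinearGroup.coe_one, Matrix.one_mulVec, code_vec] }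
  map_one' := Equiv.ext fun c => by simp [code_vec]
  map_mul' M N := Equiv.ext fun c => by simp [vec_code, Matrix.mulVec_mulVec]

theorem pi2_apply (M : SL5) (c : Fin 32) : pi2 M c = code (M.1 *ᵥ vec c) := rfl

theorem eq_one_of_fix {M : SL5} (h : ∀ i : Fin 5, ∀ c : Fin 32, (c : ℕ) = 2 ^ (i : ℕ) → pi2 M c = c) : M = 1 := by
  refine Subtype.ext (Matrix.ext fun r i => ?_)
  have hi : 2 ^ (i : ℕ) < 32 := by fin_cases i <;> decide
  have e := congrArg vec (h i ⟨_, hi⟩ rfl)
  rw [pi2_apply, vec_code] at e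
  have key : ∀ i : Fin 5, ∀ c : Fin 32, (c : ℕ) = 2 ^ (i : ℕ) → vec c = Pi.single i 1 := by decide
  have hv : vec ⟨2 ^ (i : ℕ), hi⟩ = Pi.single i 1 := key i _ rfl
  rw [hv, Matrix.mulVec_single_one] at e
  have := congrFun e r
  simp only [Matrix.col_apply] at this
  rw [this, Matrix.SpecialLinearGroup.coe_one, Matrix.one_apply, Pi.single_apply]

/-- The vectors with no component along the second axis. -/
def evs : List ℕ := (List.range 32).filter fun c => !(c.testBit 1)

/-- Candidates for the last four columns of an element centralising the transvection. -/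
def cols : List (List ℕ) :=
  ((List.range 32).filter fun c => c.testBit 1).flatMap fun a =>
    (evs.filter fun b => decide (b ∉ [0, 1])).flatMap fun b =>
      (evs.filter fun c => decide (c ∉ [0, 1, b, 1 ^^^ b])).flatMap fun c =>
        (evs.filter fun d => decide (d ∉ [0, 1, b, 1 ^^^ b, c, 1 ^^^ c, b ^^^ c, 1 ^^^ (b ^^^ c)])).map fun d =>
          [a, b, c, d]

theorem cols_length : cols.length = 21504 := by decide +kernel

/-- The transvection. -/
def tv : SL5 := ⟨Matrix.transvection 0 1 1, Matrix.det_transvection_of_ne 0 1 (by decide) 1⟩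

theorem card_centralizer_tv_le : Nat.card (Subgroup.centralizer ({tv} : Set SL5)) ≤ 21504 := by
  classical
  let im : SL5 → Fin 32 → ℕ := fun M c => (pi2 M c : ℕ)
  let f : Subgroup.centralizer ({tv} : Set SL5) → List ℕ := fun M => [im M.1 2, im M.1 4, im M.1 8, im M.1 16]
  have key : ∀ M : Subgroup.centralizer ({tv} : Set SL5), pi2 M.1 1 = 1 ∧ f M ∈ cols := by
    intro M
    have hc : M.1.1 * Matrix.transvection 0 1 (1 : ZMod 2) = Matrix.transvection 0 1 1 * M.1.1 :=
      congrArg (fun y : SL5 => (y : Matrix (Fin 5) (Fin 5) (ZMod 2))) (Subgroup.mem_centralizer_singleton_iff.1 M.2)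
    have he : M.1.1 * Matrix.single (0 : Fin 5) (1 : Fin 5) (1 : ZMod 2) = Matrix.single (0 : Fin 5) (1 : Fin 5) (1 : ZMod 2) * M.1.1 := by
      rw [Matrix.transvection, mul_add, add_mul, mul_one, one_mul] at hc
      exact add_left_cancel hc
    have ent : ∀ i j : Fin 5, (M.1.1 * Matrix.single (0 : Fin 5) (1 : Fin 5) (1 : ZMod 2) : Matrix (Fin 5) (Fin 5) (ZMod 2)) i j = (Matrix.single (0 : Fin 5) (1 : Fin 5) (1 : ZMod 2) * M.1.1 : Matrix (Fin 5) (Fin 5) (ZMod 2)) i j :=
      fun i j => by rw [he]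
    have h00 : M.1.1 0 0 = M.1.1 1 1 := by simpa using ent 0 1
    have hi0 : ∀ i, i ≠ 0 → M.1.1 i 0 = 0 := fun i hi => by
      have := ent i 1
      simpa [hi] using this
    have h1j : ∀ j, j ≠ 1 → M.1.1 1 j = 0 := fun j hj => by
      have := ent 0 j
      simpa [hj] using this.symm
    set N := fun c => pi2 M.1 c with hN
    have inj : Function.Injective N := (pi2 M.1).injective
    have n0 : (N 0 : ℕ) = 0 := by
      show (code (M.1.1 *ᵥ vec 0) : ℕ) = 0
      rw [show vec 0 = 0 from funext fun i => by simp [vec], Matrix.mulVec_zero]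
      decide
    have add : ∀ a b : Fin 32, ∀ e : Fin 32, (e : ℕ) = (a : ℕ) ^^^ b → (N e : ℕ) = (N a : ℕ) ^^^ (N b : ℕ) := by
      intro a b e he'
      have : e = code (vec a + vec b) := Fin.ext (by rw [code_add, he'])
      rw [this]
      show (code (M.1.1 *ᵥ vec (code (vec a + vec b))) : ℕ) = _
      rw [vec_code, Matrix.mulVec_add, ← vec_code (M.1.1 *ᵥ vec a), ← vec_code (M.1.1 *ᵥ vec b), code_add]
      rfl
    have col : ∀ j : Fin 5, ∀ c : Fin 32, vec c = Pi.single j 1 → vec (N c) = fun i => M.1.1 i j := by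
      intro j c hc'
      show vec (code (M.1.1 *ᵥ vec c)) = _
      rw [vec_code, hc', Matrix.mulVec_single_one]
      rfl
    have c0 := col 0 1 (by decide)
    have c1 := col 1 2 (by decide)
    have bitOf : ∀ c : Fin 32, (c : ℕ).testBit 1 = decide (vec c 1 = 1) := by decide
    have n1 : N 1 = 1 := by
      have hne : N 1 ≠ 0 := fun e => absurd (inj (a₁ := 1) (a₂ := 0) (e.trans (Fin.ext n0).symm)) (by decide)
      have key1 : ∀ v : Fin 32, v ≠ 0 → (∀ i, i ≠ 0 → vec v i = 0) → v = 1 := by decide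
      exact key1 _ hne fun i hi => by rw [c0]; exact hi0 i hi
    have h11 : vec (N 2) 1 = 1 := by
      rw [c1]
      show M.1.1 1 1 = 1
      rw [← h00, ← congrFun c0 0, n1]
      decide
    have b2 : (N 2 : ℕ).testBit 1 = true := by rw [bitOf, h11]; decide
    have bo : ∀ j : Fin 5, ∀ c : Fin 32, j ≠ 1 → vec c = Pi.single j 1 → (N c : ℕ).testBit 1 = false := by
      intro j c hj hc'
      rw [bitOf, col j c hc']
      simp [h1j j hj]
    have b4 := bo 2 4 (by decide) (by decide)
    have b8 := bo 3 8 (by decide) (by decide)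
    have b16 := bo 4 16 (by decide) (by decide)
    have ne : ∀ a b : Fin 32, a ≠ b → (N a : ℕ) ≠ (N b : ℕ) := fun a b hab e => hab (inj (Fin.ext e))
    have v5 : (N 5 : ℕ) = 1 ^^^ (N 4 : ℕ) := (add 1 4 5 (by decide)).trans (by rw [n1]; rfl)
    have v9 : (N 9 : ℕ) = 1 ^^^ (N 8 : ℕ) := (add 1 8 9 (by decide)).trans (by rw [n1]; rfl)
    have v12 : (N 12 : ℕ) = (N 4 : ℕ) ^^^ (N 8 : ℕ) := add 4 8 12 (by decide)
    have v13 : (N 13 : ℕ) = 1 ^^^ ((N 4 : ℕ) ^^^ (N 8 : ℕ)) := (add 1 12 13 (by decide)).trans (by rw [n1, v12]; rfl)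
    have o1 : (N 1 : ℕ) = 1 := by rw [n1]; rfl
    have mem_ev : ∀ c : Fin 32, (N c : ℕ).testBit 1 = false → (N c : ℕ) ∈ evs := fun c hc' => by
      simp [evs, hc', (N c).isLt]
    refine ⟨n1, ?_⟩
    show [(N 2 : ℕ), (N 4 : ℕ), (N 8 : ℕ), (N 16 : ℕ)] ∈ cols
    refine List.mem_flatMap.2 ⟨_, List.mem_filter.2 ⟨List.mem_range.2 (N 2).isLt, b2⟩, ?_⟩
    refine List.mem_flatMap.2 ⟨_, List.mem_filter.2 ⟨mem_ev 4 b4, decide_eq_true ?_⟩, ?_⟩
    · simp only [List.mem_cons, List.not_mem_nil, or_false, not_or]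
      exact ⟨n0 ▸ ne 4 0 (by decide), o1 ▸ ne 4 1 (by decide)⟩
    refine List.mem_flatMap.2 ⟨_, List.mem_filter.2 ⟨mem_ev 8 b8, decide_eq_true ?_⟩, ?_⟩
    · simp only [List.mem_cons, List.not_mem_nil, or_false, not_or]
      exact ⟨n0 ▸ ne 8 0 (by decide), o1 ▸ ne 8 1 (by decide), ne 8 4 (by decide), v5 ▸ ne 8 5 (by decide)⟩
    refine List.mem_map.2 ⟨_, List.mem_filter.2 ⟨mem_ev 16 b16, decide_eq_true ?_⟩, rfl⟩
    simp only [List.mem_cons, List.not_mem_nil, or_false, not_or]
    exact ⟨n0 ▸ ne 16 0 (by decide), o1 ▸ ne 16 1 (by decide), ne 16 4 (by decide), v5 ▸ ne 16 5 (by decide),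
      ne 16 8 (by decide), v9 ▸ ne 16 9 (by decide), v12 ▸ ne 16 12 (by decide), v13 ▸ ne 16 13 (by decide)⟩
  have hinj : Function.Injective f := by
    intro a b e
    simp only [f, im, List.cons.injEq, and_true] at e
    refine Subtype.ext (inv_mul_eq_one.1 (eq_one_of_fix fun i c hc => ?_))
    rw [map_mul, map_inv, Equiv.Perm.mul_apply, Equiv.Perm.inv_eq_iff_eq]
    obtain ⟨e1, e2, e3, e4⟩ := e
    have : ∀ i : Fin 5, ∀ c : Fin 32, (c : ℕ) = 2 ^ (i : ℕ) → c = 1 ∨ c = 2 ∨ c = 4 ∨ c = 8 ∨ c = 16 := by decide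
    rcases this i c hc with rfl | rfl | rfl | rfl | rfl
    · rw [(key a).1, (key b).1]
    · exact (Fin.ext e1).symm
    · exact (Fin.ext e2).symm
    · exact (Fin.ext e3).symm
    · exact (Fin.ext e4).symm
  calc Nat.card (Subgroup.centralizer ({tv} : Set SL5))
      = (Set.range f).ncard := (Set.ncard_range_of_injective hinj).symm
    _ ≤ (cols.toFinset : Set (List ℕ)).ncard := Set.ncard_le_ncard (by rintro _ ⟨M, rfl⟩; exact List.mem_toFinset.2 (key M).2) (Finset.finite_toSet _)
    _ = cols.toFinset.card := Set.ncard_coe_finset _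
    _ ≤ cols.length := List.toFinset_card_le _
    _ = 21504 := cols_length

end Cfsg.Agent.Spor.Cos.HeCent
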