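import Cfsg.Agent.Lib.Spor.Cos.CentCert
import Cfsg.Agent.Lib.Spor.Cos.He.Order
import Cfsg.Agent.Lib.Spor.Cos.HeCent.Data
import Cfsg.Agent.Lib.Spor.Cos.HeCent.Linear
import Cfsg.Agent.Lib.Spor.Cos.HeCent.Cls0
import Cfsg.Agent.Lib.Spor.Cos.HeCent.Cls1
import Cfsg.Agent.Lib.Spor.Cos.HeCent.Cls2
import Cfsg.Agent.Lib.Spor.Cos.HeCent.Cls3
import Cfsg.Agent.Lib.Spor.Cos.HeCent.Cls4
import Cfsg.Agent.Lib.Spor.Cos.HeCent.Cls5
import Cfsg.Agent.Lib.Spor.Cos.HeCent.Cls6
import Cfsg.Agent.Lib.Spor.Cos.HeCent.Cls7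

/-!
An involution of the Held group whose centraliser is that of a transvection in five dimensions.
-/

set_option autoImplicit false
set_option maxRecDepth 100000
set_option maxHeartbeats 4000000

namespace Cfsg.Agent.Spor.Cos.HeCent

open Cfsg.Spor

instance : Finite Spor.He := He.finite

/-- The involution. -/
noncomputable def z : Spor.He := ev He.g [3]

theorem z_order : orderOf z = 2 := by
  refine orderOf_eq_prime (hp := ⟨Nat.prime_two⟩) ?_ fun e => ?_
  · show (He.g 3 * 1) ^ 2 = 1
    rw [mul_one, sq]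
    exact He.g_sq 3
  · have h := He.homA.apply_ev [3] (by decide) ⟨2, by decide⟩
    rw [show ev He.g [3] = z from rfl, e, map_one, Equiv.Perm.one_apply] at h
    revert h
    decide +kernel

theorem fix_all : ∀ p < He.actA.N, (!(Nat.beq (He.actA.go [3] p) p) || fixL.any (Nat.beq p)) = true := by
  refine of_blocks (size := 256) (b := 9) (by decide) (by decide) fun j hj => ?_
  interval_cases j <;> decide +kernel

theorem card_centralizer_z_le : Nat.card (Subgroup.centralizer ({z} : Set Spor.He)) ≤ 21504 := by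
  have cls : ∀ j < 3825, chkConj He.actA [0, 1, 2, 3, 5, 8, 1435] He.baseA [3] 80 clsU clsK 3825 j = true := by
    refine of_blocks (size := 512) (b := 8) (by decide) (by decide) fun j hj => ?_
    interval_cases j
    exacts [cls0, cls1, cls2, cls3, cls4, cls5, cls6, cls7]
  have h := card_centralizer_le (fun s _ => He.g_sq s) He.homA (by decide +kernel) (by decide +kernel) (by decide +kernel) cls fix_all
    (stab He.piA He.baseA) fun y => mem_stab
  rw [card_stab He.trA (k := 1958400) He.card_eq, show fixL.length = 42 from rfl] at h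
  exact Nat.le_of_mul_le_mul_right (h.trans (by norm_num)) (by norm_num : 0 < 3825)

/-- The matrices. -/
def mat (s : ℕ) : SL5 :=
  if h : (Matrix.of fun r c : Fin 5 =>
      if ((mats.getD s [1, 2, 4, 8, 16]).getD (c : ℕ) 0).testBit (r : ℕ) then (1 : ZMod 2) else 0).det = 1 then
    ⟨_, h⟩ else 1

/-- The pairs. -/
noncomputable def gd (s : ℕ) : Spor.He × SL5 :=
  if s < 4 then (ev He.g (xw.getD s []), mat s) else 1

/-- The action of the pairs. -/
noncomputable def piD : Spor.He × SL5 →* Equiv.Perm (Fin actD.N) := sumHom He.piA pi2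

theorem actD_inv : ∀ p < actD.N, actD.chkInv p = true := by
  refine of_blocks (size := 256) (b := 9) (by decide) (by decide) fun j hj => ?_
  interval_cases j <;> decide +kernel

theorem actD_left : ∀ p < 2058, ((List.range 4).all fun s =>
    Nat.beq (actD.im p s) (He.actA.go (xw.getD s []) p)) = true := by
  refine of_blocks (size := 256) (b := 9) (by decide) (by decide) fun j hj => ?_
  interval_cases j <;> decide +kernel

theorem actD_right : ∀ s : Fin 4, ∀ c : Fin 32, actD.im (2058 + c) s = 2058 + (pi2 (mat s) c : ℕ) := by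
  decide +kernel

theorem piD_left (y : Spor.He × SL5) (q : Fin He.actA.N) (h : (q : ℕ) < actD.N) :
    (piD y ⟨q, h⟩ : ℕ) = (He.piA y.1 q : ℕ) :=
  congrArg Fin.val (sumHom_left He.piA pi2 y q)

theorem piD_right (y : Spor.He × SL5) (q : Fin 32) (h : 2058 + (q : ℕ) < actD.N) :
    (piD y ⟨2058 + q, h⟩ : ℕ) = 2058 + (pi2 y.2 q : ℕ) :=
  congrArg Fin.val (sumHom_right He.piA pi2 y q)

theorem cases_actD (p : Fin actD.N) :
    (∃ (q : Fin He.actA.N) (h : (q : ℕ) < actD.N), p = ⟨q, h⟩) ∨
      ∃ (q : Fin 32) (h : 2058 + (q : ℕ) < actD.N), p = ⟨2058 + q, h⟩ := by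
  have hp : (p : ℕ) < 2058 + 32 := p.2
  rcases Nat.lt_or_ge (p : ℕ) 2058 with h | h
  · exact Or.inl ⟨⟨(p : ℕ), h⟩, p.2, rfl⟩
  · refine Or.inr ⟨⟨(p : ℕ) - 2058, by omega⟩, ?_, Fin.ext (Nat.add_sub_cancel' h).symm⟩
    show 2058 + ((p : ℕ) - 2058) < 2058 + 32
    omega

theorem homD : actD.Hom gd piD := by
  refine ⟨actD_inv, fun s => ?_⟩
  rcases Nat.lt_or_ge s 4 with hs | hs
  · refine Equiv.ext fun p => Fin.ext ?_
    rw [actD.perm_apply actD_inv (show s < actD.n from hs)]
    have hxl : ∀ t ∈ xw.getD s [], t < He.actA.n := by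
      have : ∀ s < 4, ((xw.getD s []).all fun t => Nat.blt t He.actA.n) = true := by decide +kernel
      exact fun t ht => Nat.le_of_ble_eq_true (List.all_eq_true.1 (this s hs) t ht)
    obtain ⟨q, hq, rfl⟩ | ⟨q, hq, rfl⟩ := cases_actD p
    · rw [piD_left, gd, if_pos hs, He.homA.apply_ev _ hxl]
      exact (Nat.eq_of_beq_eq_true (List.all_eq_true.1 (actD_left q q.2) s (List.mem_range.2 hs))).symm
    · rw [piD_right, gd, if_pos hs]
      exact (actD_right ⟨s, hs⟩ q).symm
  · rw [actD.perm_out s (show actD.n ≤ s from hs)]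
    simp [gd, Nat.not_lt.2 hs]

theorem detD (y : Spor.He × SL5) (h : ∀ q : Fin actD.N, (q : ℕ) ∈ ptsD → piD y q = q) : y = 1 := by
  have hl : ∀ q : Fin He.actA.N, (q : ℕ) ∈ ptsD → He.piA y.1 q = q := fun q hq => by
    have hq' : (q : ℕ) < actD.N := lt_of_lt_of_le q.2 (Nat.le_add_right 2058 32)
    have e := congrArg Fin.val (h ⟨q, hq'⟩ hq)
    rw [piD_left] at e
    exact Fin.ext e
  have hr : ∀ c : Fin 32, 2058 + (c : ℕ) ∈ ptsD → pi2 y.2 c = c := fun c hc => by
    have hc' : 2058 + (c : ℕ) < actD.N := Nat.add_lt_add_left c.2 2058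
    have e := congrArg Fin.val (h ⟨2058 + c, hc'⟩ hc)
    rw [piD_right] at e
    exact Fin.ext (Nat.add_left_cancel e)
  refine Prod.ext (He.det y.1 fun q hq => hl q ?_) (eq_one_of_fix fun i c hc => hr c ?_)
  · revert hq
    generalize (q : ℕ) = n
    simp only [ptsD, List.mem_cons, List.not_mem_nil, or_false]
    omega
  · rw [hc]
    exact (by decide +kernel : ∀ i : Fin 5, 2058 + 2 ^ (i : ℕ) ∈ ptsD) i

theorem s_chk : (∀ i < s0.orb.m * s0.X.length, s0.chk actD ptsD i = true) ∧
    (∀ i < s1.orb.m * s1.X.length, s1.chk actD ptsD i = true) ∧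
    (∀ i < s2.orb.m * s2.X.length, s2.chk actD ptsD i = true) ∧
    ∀ i < s3.orb.m * s3.X.length, s3.chk actD ptsD i = true := by
  refine ⟨of_blocks (size := 256) (b := 1) (by decide) (by decide +kernel) fun j hj => ?_,
    of_blocks (size := 1024) (b := 1) (by decide) (by decide +kernel) fun j hj => ?_,
    of_blocks (size := 256) (b := 1) (by decide) (by decide +kernel) fun j hj => ?_,
    of_blocks (size := 256) (b := 1) (by decide) (by decide +kernel) fun j hj => ?_⟩
  all_goals interval_cases j; decide +kernel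

/-- The pairs generate this. -/
noncomputable abbrev R : Subgroup (Spor.He × SL5) := val gd p0W

theorem card_R_le : Nat.card R ≤ 21504 := by
  have h4 : Nat.card (val gd []) ≤ 1 := by rw [val_nil, Subgroup.card_bot]
  have h3 : Nat.card (val gd p3W) ≤ 2 :=
    s3.card_le homD detD h4 (val_le_of_wordsIn (by decide +kernel)) (val_le_of_wordsIn (by decide +kernel)) (val_le_of_wordsIn (by decide +kernel)) (by decide +kernel) s_chk.2.2.2
  have h2 : Nat.card (val gd p2W) ≤ 4 :=
    s2.card_le homD detD h3 le_rfl (val_le_of_wordsIn (by decide +kernel)) (val_le_of_wordsIn (by decide +kernel)) (by decide +kernel) s_chk.2.2.1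
  have h1 : Nat.card (val gd p1W) ≤ 512 :=
    s1.card_le homD detD h2 le_rfl (val_le_of_wordsIn (by decide +kernel)) (val_le_of_wordsIn (by decide +kernel)) (by decide +kernel) s_chk.2.1
  exact s0.card_le homD detD h1 le_rfl (val_le_of_wordsIn (by decide +kernel)) (val_le_of_wordsIn (by decide +kernel)) (by decide +kernel) s_chk.1

theorem ok_p0 : p0.Ok actD p0W 0 := ⟨(by decide +kernel), (by decide +kernel), (by decide +kernel)⟩

theorem ok_p1 : p1.Ok actD p1W 2 := ⟨(by decide +kernel), (by decide +kernel), (by decide +kernel)⟩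

theorem ok_p2 : p2.Ok actD p2W 8 := ⟨(by decide +kernel), (by decide +kernel), (by decide +kernel)⟩

theorem ok_p3 : p3.Ok actD p3W 5 := ⟨(by decide +kernel), (by decide +kernel), (by decide +kernel)⟩

theorem ok_v0 : v0.Ok actD v0W 2060 := ⟨(by decide +kernel), (by decide +kernel), (by decide +kernel)⟩

theorem ok_v1 : v1.Ok actD v1W 2062 := ⟨(by decide +kernel), (by decide +kernel), (by decide +kernel)⟩

theorem ok_v2 : v2.Ok actD v2W 2066 := ⟨(by decide +kernel), (by decide +kernel), (by decide +kernel)⟩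

theorem ok_v3 : v3.Ok actD v3W 2074 := ⟨(by decide +kernel), (by decide +kernel), (by decide +kernel)⟩

theorem levP : LevR gd actD piD p0W 21504 [0, 2, 8, 5] :=
  LevR.step homD (LevR.step homD (LevR.step homD (LevR.step homD LevR.nil ok_p3 (by decide +kernel) (by decide +kernel) (by decide +kernel))
    ok_p2 (by decide +kernel) (by decide +kernel) (by decide +kernel)) ok_p1 (by decide +kernel) (by decide +kernel) (by decide +kernel)) ok_p0 (by decide +kernel) (by decide +kernel) (by decide +kernel)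

theorem levV : LevR gd actD piD p0W 21504 [2060, 2062, 2066, 2074] :=
  show LevR gd actD piD v0W 21504 [2060, 2062, 2066, 2074] from
  LevR.step homD (LevR.step homD (LevR.step homD (LevR.step homD LevR.nil ok_v3 (by decide +kernel) (by decide +kernel) (by decide +kernel))
    ok_v2 (by decide +kernel) (by decide +kernel) (by decide +kernel)) ok_v1 (by decide +kernel) (by decide +kernel) (by decide +kernel)) ok_v0 (by decide +kernel) (by decide +kernel) (by decide +kernel)

theorem xw_comm : ((List.range 4).all fun s =>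
    agree He.actA [0, 1, 2, 3, 5, 8, 1435] ([3] ++ xw.getD s []) (xw.getD s [] ++ [3])) = true := by decide +kernel

theorem mat_comm : ∀ s : Fin 4, (mat s).1 * tv.1 = tv.1 * (mat s).1 := by decide +kernel

theorem xw_mem_centralizer {s : ℕ} (hs : s < 4) :
    ev He.g (xw.getD s []) ∈ Subgroup.centralizer ({z} : Set Spor.He) := by
  have hl : ∀ s < 4, (Act.lettersOk He.actA.n [[3] ++ xw.getD s []] &&
      Act.lettersOk He.actA.n [xw.getD s [] ++ [3]]) = true := by decide +kernel
  obtain ⟨hl1, hl2⟩ := Bool.and_eq_true_iff.1 (hl s hs)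
  have h := ev_eq_of_agree He.homA He.det hl1 hl2 (List.all_eq_true.1 xw_comm s (List.mem_range.2 hs))
  rw [ev_append, ev_append] at h
  exact Subgroup.mem_centralizer_singleton_iff.2 h.symm

theorem mem_centralizer_of_coe {M t : SL5} (h : M.1 * t.1 = t.1 * M.1) :
    M ∈ Subgroup.centralizer ({t} : Set SL5) :=
  Subgroup.mem_centralizer_singleton_iff.2 (Subtype.ext h)

theorem mem_prod_mk {G₁ G₂ : Type*} [Group G₁] [Group G₂] {A : Subgroup G₁} {B : Subgroup G₂} {a : G₁} {b : G₂}
    (ha : a ∈ A) (hb : b ∈ B) : (a, b) ∈ A.prod B := Subgroup.mem_prod.2 ⟨ha, hb⟩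

attribute [local irreducible] mat

theorem mat_mem_centralizer {s : ℕ} (hs : s < 4) : mat s ∈ Subgroup.centralizer ({tv} : Set SL5) :=
  mem_centralizer_of_coe (mat_comm ⟨s, hs⟩)

theorem gd_mem {s : ℕ} (hs : s < 4) :
    gd s ∈ (Subgroup.centralizer ({z} : Set Spor.He)).prod (Subgroup.centralizer ({tv} : Set SL5)) := by
  rw [show gd s = (ev He.g (xw.getD s []), mat s) from if_pos hs]
  exact mem_prod_mk (xw_mem_centralizer hs) (mat_mem_centralizer hs)

theorem R_le : R ≤ (Subgroup.centralizer ({z} : Set Spor.He)).prod (Subgroup.centralizer ({tv} : Set SL5)) :=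
  (Subgroup.closure_le _).2 fun _ ⟨w, hw, e⟩ =>
    e ▸ ev_mem w fun s hs => gd_mem (Act.lt_of_lettersOk ok_p0.letters hw s hs)

theorem nonempty_iso : Nonempty (Subgroup.centralizer ({z} : Set Spor.He) ≃* Subgroup.centralizer ({tv} : Set SL5)) := by
  refine nonempty_mulEquiv_of_subdirect R _ _ (fun y hy => (Subgroup.mem_prod.1 (R_le hy)).1)
    (fun y hy => (Subgroup.mem_prod.1 (R_le hy)).2) ?_ ?_ levP.le card_centralizer_z_le card_centralizer_tv_le
  · intro y hy h1
    refine levP.fix card_R_le y hy fun q hq => ?_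
    obtain ⟨q', h', rfl⟩ | ⟨q', h', rfl⟩ := cases_actD q
    · refine Fin.ext ?_
      rw [piD_left, h1, map_one, Equiv.Perm.one_apply]
    · exfalso
      revert hq
      show 2058 + (q' : ℕ) ∈ _ → False
      simp only [List.mem_cons, List.not_mem_nil, or_false]
      omega
  · intro y hy h2
    refine levV.fix card_R_le y hy fun q hq => ?_
    obtain ⟨q', h', rfl⟩ | ⟨q', h', rfl⟩ := cases_actD q
    · exfalso
      have hq2 : (q' : ℕ) < 2058 := q'.2
      revert hq
      show (q' : ℕ) ∈ _ → False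
      simp only [List.mem_cons, List.not_mem_nil, or_false]
      omega
    · refine Fin.ext ?_
      rw [piD_right, h2, map_one, Equiv.Perm.one_apply]

end Cfsg.Agent.Spor.Cos.HeCent
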